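import Mathlib

/-!
Discriminants of quadratic and bilinear forms over finite fields: Gram determinants,
classification of diagonal forms in odd characteristic.
-/

set_option autoImplicit false

open Matrix

namespace CfsgLib.FormsDisc

variable {F : Type*} [Field F]

/-- Gram determinants in two bases differ by a nonzero square. -/
lemma gram_det_basis {V ι κ : Type*} [AddCommGroup V] [Module F V] [Fintype ι] [DecidableEq ι]
    [Fintype κ] [DecidableEq κ] (B : LinearMap.BilinForm F V)
    (b : Module.Basis ι F V) (c : Module.Basis κ F V) :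
    ∃ d : F, d ≠ 0 ∧ (Matrix.of fun i j : ι => B (b i) (b j)).det =
      (Matrix.of fun i j : κ => B (c i) (c j)).det * d ^ 2 := by
  let e : ι ≃ κ := b.indexEquiv c
  let c' : Module.Basis ι F V := c.reindex e.symm
  have h1 : (Matrix.of fun i j : ι => B (c' i) (c' j)) =
      (Matrix.of fun i j : κ => B (c i) (c j)).submatrix e e := by
    ext i j; simp [c']
  have h2 : (Matrix.of fun i j : ι => B (b i) (b j)) = LinearMap.BilinForm.toMatrix b B := by
    ext i j; simp [LinearMap.BilinForm.toMatrix_apply]
  have h3 : (Matrix.of fun i j : ι => B (c' i) (c' j)) = LinearMap.BilinForm.toMatrix c' B := by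
    ext i j; simp [LinearMap.BilinForm.toMatrix_apply]
  refine ⟨(c'.toMatrix b).det, ?_, ?_⟩
  · intro h
    have := c'.invertibleToMatrix b
    exact (Matrix.isUnit_det_of_invertible (c'.toMatrix b)).ne_zero h
  · rw [← Matrix.det_submatrix_equiv_self e (Matrix.of fun i j : κ => B (c i) (c j)), ← h1, h2, h3,
      ← LinearMap.BilinForm.toMatrix_mul_basis_toMatrix c' b B, Matrix.det_mul, Matrix.det_mul,
      Matrix.det_transpose]
    ring

lemma isSquare_mul_sq_iff {x d : F} (hd : d ≠ 0) : IsSquare (x * d ^ 2) ↔ IsSquare x := by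
  constructor
  · rintro ⟨s, hs⟩
    refine ⟨s / d, ?_⟩
    field_simp
    linear_combination hs
  · rintro ⟨s, hs⟩
    exact ⟨s * d, by rw [hs]; ring⟩

variable [Fintype F]

lemma isSquare_mul_iff_of_odd (h2 : (2 : F) ≠ 0) {a b : F} (ha : a ≠ 0) (hb : b ≠ 0) :
    IsSquare (a * b) ↔ (IsSquare a ↔ IsSquare b) := by
  classical
  rw [← quadraticChar_one_iff_isSquare ha, ← quadraticChar_one_iff_isSquare hb,
    ← quadraticChar_one_iff_isSquare (mul_ne_zero ha hb), map_mul]
  rcases quadraticChar_dichotomy ha with h | h <;> rcases quadraticChar_dichotomy hb with h' | h' <;>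
    simp [h, h']

lemma two_ne_zero_of_card_odd {q : ℕ} (hF : Fintype.card F = q) (hq : Odd q) : (2 : F) ≠ 0 := by
  apply Ring.two_ne_zero
  intro h
  have := FiniteField.even_card_of_char_two h
  subst hF
  rw [Nat.odd_iff] at hq
  omega

/-- In odd characteristic `a x² + b y² = 1` is soluble for nonzero `a, b`. -/
lemma binary_represents_one (h2 : (2 : F) ≠ 0) {a b : F} (ha : a ≠ 0) (hb : b ≠ 0) :
    ∃ x y : F, a * x ^ 2 + b * y ^ 2 = 1 := by
  classical
  open Polynomial in
  have hodd : Fintype.card F % 2 = 1 := FiniteField.odd_card_of_char_ne_two (by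
    intro h
    have : CharP F 2 := h ▸ ringChar.charP F
    exact h2 (by exact_mod_cast CharP.cast_eq_zero F 2))
  open Polynomial in
  obtain ⟨x, y, h⟩ := FiniteField.exists_root_sum_quadratic (f := C a * X ^ 2 - C 1)
    (g := C b * X ^ 2)
    (by rw [degree_sub_eq_left_of_degree_lt] <;> simp [degree_C_mul_X_pow, ha])
    (by simp [degree_C_mul_X_pow, hb]) hodd
  refine ⟨x, y, ?_⟩
  simp only [Polynomial.eval_sub, Polynomial.eval_mul, Polynomial.eval_C, Polynomial.eval_pow,
    Polynomial.eval_X] at h
  linear_combination h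

/-- `⟨a, b⟩` is isometric to `⟨1, ab⟩`. -/
lemma pair_normalise (h2 : (2 : F) ≠ 0) {n : ℕ} (a b : F) (ha : a ≠ 0) (hb : b ≠ 0)
    (w : Fin n → F) :
    (QuadraticMap.weightedSumSquares F (Fin.cons a (Fin.cons b w))).Equivalent
      (QuadraticMap.weightedSumSquares F (Fin.cons 1 (Fin.cons (a * b) w))) := by
  obtain ⟨x, y, hxy⟩ := binary_represents_one h2 ha hb
  let f : (Fin (n + 2) → F) ≃ₗ[F] (Fin (n + 2) → F) :=
    { toFun := fun v => Fin.cons (x * v 0 - b * y * v 1) (Fin.cons (y * v 0 + a * x * v 1)
        (fun i => v i.succ.succ))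
      invFun := fun v => Fin.cons (a * x * v 0 + b * y * v 1) (Fin.cons (x * v 1 - y * v 0)
        (fun i => v i.succ.succ))
      map_add' := fun u v => by
        ext i
        refine Fin.cases ?_ (fun i => Fin.cases ?_ (fun i => ?_) i) i <;> simp <;> ring
      map_smul' := fun c v => by
        ext i
        refine Fin.cases ?_ (fun i => Fin.cases ?_ (fun i => ?_) i) i <;> simp <;> ring
      left_inv := fun v => by
        ext i
        refine Fin.cases ?_ (fun i => Fin.cases ?_ (fun i => ?_) i) i
        · simp; linear_combination v 0 * hxy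
        · simp; linear_combination v 1 * hxy
        · simp
      right_inv := fun v => by
        ext i
        refine Fin.cases ?_ (fun i => Fin.cases ?_ (fun i => ?_) i) i
        · simp; linear_combination v 0 * hxy
        · simp; linear_combination v 1 * hxy
        · simp }
  refine QuadraticMap.Equivalent.symm ⟨⟨f, fun v => ?_⟩⟩
  simp [f, QuadraticMap.weightedSumSquares_apply, Fin.sum_univ_succ]
  linear_combination (v 0 * v 0 + a * b * (v 1 * v 1)) * hxy

lemma cons_equivalent {n : ℕ} (a : F) {w w' : Fin n → F}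
    (h : (QuadraticMap.weightedSumSquares F w).Equivalent (QuadraticMap.weightedSumSquares F w')) :
    (QuadraticMap.weightedSumSquares F (Fin.cons a w)).Equivalent
      (QuadraticMap.weightedSumSquares F (Fin.cons a w')) := by
  obtain ⟨e⟩ := h
  let f : (Fin (n + 1) → F) ≃ₗ[F] (Fin (n + 1) → F) :=
    { toFun := fun v => Fin.cons (v 0) (e (Fin.tail v))
      invFun := fun v => Fin.cons (v 0) (e.toLinearEquiv.symm (Fin.tail v))
      map_add' := fun u v => by
        ext i
        refine Fin.cases ?_ (fun i => ?_) i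
        · simp
        · have : Fin.tail (u + v) = Fin.tail u + Fin.tail v := rfl
          simp [this]
      map_smul' := fun c v => by
        ext i
        refine Fin.cases ?_ (fun i => ?_) i
        · simp
        · have : Fin.tail (c • v) = c • Fin.tail v := rfl
          simp [this]
      left_inv := fun v => by
        ext i
        refine Fin.cases ?_ (fun i => ?_) i
        · simp
        · simp [Fin.tail]
      right_inv := fun v => by
        ext i
        refine Fin.cases ?_ (fun i => ?_) i
        · simp
        · simp [Fin.tail] }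
  refine ⟨⟨f, fun v => ?_⟩⟩
  have h : QuadraticMap.weightedSumSquares F w' (e (Fin.tail v)) =
      QuadraticMap.weightedSumSquares F w (Fin.tail v) := e.map_app (Fin.tail v)
  simp only [QuadraticMap.weightedSumSquares_apply, smul_eq_mul, Fin.tail] at h
  simp only [f, QuadraticMap.weightedSumSquares_apply, smul_eq_mul, Fin.sum_univ_succ,
    Fin.cons_zero, Fin.cons_succ]
  show a * (v 0 * v 0) + ∑ i : Fin n, w' i * (e (Fin.tail v) i * e (Fin.tail v) i) = _
  linear_combination h

/-- Classification of nondegenerate diagonal forms by discriminant, odd characteristic. -/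
theorem weighted_equivalent (h2 : (2 : F) ≠ 0) :
    ∀ {n : ℕ} (w w' : Fin n → F), (∀ i, w i ≠ 0) → (∀ i, w' i ≠ 0) →
      IsSquare ((∏ i, w i) * ∏ i, w' i) →
      (QuadraticMap.weightedSumSquares F w).Equivalent (QuadraticMap.weightedSumSquares F w') := by
  intro n
  induction n with
  | zero => intro w w' _ _ _; rw [Subsingleton.elim w w']
  | succ n ih =>
    intro w w' hw hw' hsq
    cases n with
    | zero =>
      obtain ⟨s, hs⟩ := hsq
      simp only [Fin.prod_univ_succ, Fin.prod_univ_zero, mul_one] at hs
      have hs0 : s ≠ 0 := by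
        intro h
        rw [h, mul_zero] at hs
        exact mul_ne_zero (hw 0) (hw' 0) hs
      refine ⟨QuadraticForm.isometryEquivWeightedSumSquaresWeightedSumSquares
        (fun _ => Units.mk0 (s / w' 0) (div_ne_zero hs0 (hw' 0))) fun i => ?_⟩
      rw [Fin.eq_zero i]
      simp only [Units.val_mk0]
      have := hw' 0
      field_simp
      linear_combination -hs
    | succ m =>
      obtain ⟨a, u, rfl⟩ : ∃ a u, w = Fin.cons a u := ⟨_, _, (Fin.cons_self_tail w).symm⟩
      obtain ⟨b, v, rfl⟩ : ∃ b v, w' = Fin.cons b v := ⟨_, _, (Fin.cons_self_tail w').symm⟩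
      obtain ⟨a', u, rfl⟩ : ∃ a u', u = Fin.cons a u' := ⟨_, _, (Fin.cons_self_tail u).symm⟩
      obtain ⟨b', v, rfl⟩ : ∃ a v', v = Fin.cons a v' := ⟨_, _, (Fin.cons_self_tail v).symm⟩
      have ha : a ≠ 0 := by simpa using hw 0
      have ha' : a' ≠ 0 := by simpa using hw 1
      have hb : b ≠ 0 := by simpa using hw' 0
      have hb' : b' ≠ 0 := by simpa using hw' 1
      refine (pair_normalise h2 a a' ha ha' u).trans
        (((cons_equivalent 1 (ih _ _ ?_ ?_ ?_))).trans (pair_normalise h2 b b' hb hb' v).symm)
      · intro i; refine Fin.cases ?_ (fun i => ?_) i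
        · simp [ha, ha']
        · simpa using hw i.succ.succ
      · intro i; refine Fin.cases ?_ (fun i => ?_) i
        · simp [hb, hb']
        · simpa using hw' i.succ.succ
      · simpa [Fin.prod_univ_succ, mul_assoc] using hsq

/-- The discriminant (polar Gram determinant) classifies nondegenerate forms on `F^n`. -/
theorem equivalent_of_disc (h2 : (2 : F) ≠ 0) {n : ℕ} (Q₁ Q₂ : QuadraticForm F (Fin n → F))
    (h₁ : (QuadraticMap.polarBilin Q₁).Nondegenerate)
    (h₂ : (QuadraticMap.polarBilin Q₂).Nondegenerate)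
    (hsq : IsSquare ((Matrix.of fun i j : Fin n => QuadraticMap.polar ⇑Q₁ (Pi.single i 1) (Pi.single j 1)).det *
      (Matrix.of fun i j : Fin n => QuadraticMap.polar ⇑Q₂ (Pi.single i 1) (Pi.single j 1)).det)) :
    Q₁.Equivalent Q₂ := by
  classical
  let _ : Invertible (2 : F) := invertibleOfNonzero h2
  have key : ∀ Q : QuadraticForm F (Fin n → F), (QuadraticMap.polarBilin Q).Nondegenerate →
      ∃ w : Fin n → F, (∀ i, w i ≠ 0) ∧ Q.Equivalent (QuadraticMap.weightedSumSquares F w) ∧
        ∃ d : F, d ≠ 0 ∧ 2 ^ n * ∏ i, w i =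
          (Matrix.of fun i j : Fin n => QuadraticMap.polar ⇑Q (Pi.single i 1) (Pi.single j 1)).det * d ^ 2 := by
    intro Q hQ
    have hQ' : (QuadraticMap.associated (R := F) Q).SeparatingLeft :=
      (QuadraticMap.nondegenerate_associated_iff.2 (QuadraticMap.nondegenerate_polar_iff.1 hQ)).1
    obtain ⟨v, hv⟩ := LinearMap.BilinForm.exists_orthogonal_basis
      (B := QuadraticMap.associated (R := F) Q) ⟨QuadraticMap.associated_isSymm F Q⟩
    have hv₂ := hv.not_isOrtho_basis_self_of_separatingLeft hQ'
    let v' := v.reindex (finCongr (Module.finrank_fin_fun F))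
    have hne : ∀ i, Q (v' i) ≠ 0 := fun i => by
      simpa [v', LinearMap.IsOrtho, QuadraticMap.associated_eq_self_apply] using
        hv₂ ((finCongr (Module.finrank_fin_fun F)).symm i)
    have hv' : (QuadraticMap.associated (R := F) Q).IsOrthoᵢ v' := by
      rw [LinearMap.isOrthoᵢ_def]
      intro i j hij
      simpa [v'] using LinearMap.isOrthoᵢ_def.1 hv
        ((finCongr (Module.finrank_fin_fun F)).symm i) ((finCongr (Module.finrank_fin_fun F)).symm j)
        (fun h => hij ((finCongr (Module.finrank_fin_fun F)).symm.injective h))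
    refine ⟨fun i => Q (v' i), hne, ?_, ?_⟩
    · let iso := Q.isometryEquivBasisRepr v'
      exact ⟨{ iso.toLinearEquiv with
        map_app' := fun m => by
          have := iso.map_app m
          calc QuadraticMap.weightedSumSquares F (fun i => Q (v' i)) (iso.toLinearEquiv m)
              = Q.basisRepr v' (iso.toLinearEquiv m) :=
                congrArg (fun P : QuadraticForm F (Fin n → F) => P (iso.toLinearEquiv m))
                  (QuadraticMap.basisRepr_eq_of_iIsOrtho _ _ hv').symm
            _ = Q m := this }⟩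
    · obtain ⟨d, hd, h⟩ := gram_det_basis (QuadraticMap.polarBilin Q) v' (Pi.basisFun F (Fin n))
      refine ⟨d, hd, ?_⟩
      simp only [QuadraticMap.polarBilin_apply_apply, Pi.basisFun_apply] at h
      rw [← h]
      have hdiag : (Matrix.of fun i j => QuadraticMap.polar ⇑Q (v' i) (v' j)) =
          Matrix.diagonal fun i => 2 * Q (v' i) := by
        ext i j
        by_cases hij : i = j
        · subst hij; simp [QuadraticMap.polar_self]
        · have h0 := LinearMap.isOrthoᵢ_def.1 hv' i j hij
          rw [Matrix.diagonal_apply_ne _ hij, Matrix.of_apply]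
          have h1 : QuadraticMap.polar (⇑Q) (v' i) (v' j) =
              2 * QuadraticMap.associated (R := F) Q (v' i) (v' j) := by
            rw [← QuadraticMap.polarBilin_apply_apply, ← QuadraticMap.two_nsmul_associated F Q,
              two_nsmul, two_mul]
            rfl
          rw [h1, h0, mul_zero]
      rw [hdiag, Matrix.det_diagonal, Finset.prod_mul_distrib]
      simp
  obtain ⟨w, hw, ⟨e⟩, d, hd, hwd⟩ := key Q₁ h₁
  obtain ⟨w', hw', ⟨e'⟩, d', hd', hwd'⟩ := key Q₂ h₂
  refine (show Q₁.Equivalent _ from ⟨e⟩).trans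
    ((weighted_equivalent h2 w w' hw hw' ?_).trans (show Q₂.Equivalent _ from ⟨e'⟩).symm)
  rw [← isSquare_mul_sq_iff (mul_ne_zero hd hd')] at hsq
  rw [← isSquare_mul_sq_iff (pow_ne_zero n h2)]
  convert hsq using 1
  linear_combination (2 ^ n * ∏ i, w' i) * hwd +
    ((Matrix.of fun i j : Fin n => QuadraticMap.polar ⇑Q₁ (Pi.single i 1) (Pi.single j 1)).det * d ^ 2) * hwd'

end CfsgLib.FormsDisc
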