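import Cfsg.Agent.Lib.Classical.Quad.Basic
import Cfsg.Agent.Lib.FormsDisc.Basic

/-!
Hyperbolic decomposition of a nondegenerate quadratic space over a finite field.
-/

set_option autoImplicit false

universe u v

namespace CfsgLib.FormsDisc

open QuadraticMap Module
open CfsgLib.Classical.Quad (NDPolar)

variable {F : Type u} [Field F]

/-- `k` mutually orthogonal hyperbolic pairs. -/
structure IsHypFamily {V : Type v} [AddCommGroup V] [Module F V] (Q : QuadraticForm F V) {k : ℕ}
    (e f : Fin k → V) : Prop where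
  sing : ∀ i, Q (e i) = 0 ∧ Q (f i) = 0
  pair : ∀ i j, polar Q (e i) (f j) = if i = j then 1 else 0
  iso : ∀ i j, polar Q (e i) (e j) = 0 ∧ polar Q (f i) (f j) = 0

theorem exists_singular_of_three [Fintype F] {V : Type v} [AddCommGroup V] [Module F V]
    [FiniteDimensional F V] (Q : QuadraticForm F V) (hn : 3 ≤ finrank F V) :
    ∃ w : V, w ≠ 0 ∧ Q w = 0 := by
  by_contra! hns
  have hker : ∀ S : Submodule F V, ∀ x : V, 1 < finrank F S →
      ∃ y ∈ S, y ≠ 0 ∧ polar Q x y = 0 := by
    intro S x hS
    by_contra! h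
    have hinj : Function.Injective ((polarBilin Q x).domRestrict S) := by
      rw [injective_iff_map_eq_zero]
      intro y hy
      by_contra hy0
      exact h y y.2 (fun h0 => hy0 (Subtype.ext h0)) hy
    have := LinearMap.finrank_le_finrank_of_injective hinj
    rw [finrank_self] at this
    omega
  have : Nontrivial V := Module.nontrivial_of_finrank_pos (R := F) (by omega)
  obtain ⟨x, hx⟩ := exists_ne (0 : V)
  obtain ⟨y, hy, hyx⟩ : ∃ y : V, y ∉ F ∙ x ∧ polar Q x y = 0 := by
    by_contra! h
    have hle : LinearMap.ker (polarBilin Q x) ≤ F ∙ x := fun y hy => by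
      by_contra h'; exact h y h' hy
    have h1 := LinearMap.finrank_range_add_finrank_ker (polarBilin Q x)
    have h2 := Submodule.finrank_le (LinearMap.range (polarBilin Q x))
    have h3 := (Submodule.finrank_mono hle).trans (finrank_span_singleton hx).le
    rw [finrank_self] at h2
    omega
  have hy0 : y ≠ 0 := fun h => hy (h ▸ zero_mem _)
  have ha := hns x hx
  have hb := hns y hy0
  by_cases h2 : (2 : F) = 0
  · have := CharTwo.of_one_ne_zero_of_two_eq_zero (R := F) one_ne_zero h2
    obtain ⟨s, hs⟩ := FiniteField.isSquare_of_char_two (ringChar.eq F 2) (Q y / Q x)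
    refine hns (s • x + y) (fun h => hy ?_) ?_
    · rw [← Submodule.neg_mem_iff, ← eq_neg_of_add_eq_zero_left h]
      exact Submodule.smul_mem _ _ (Submodule.mem_span_singleton_self x)
    · rw [QuadraticMap.map_add (⇑Q), QuadraticMap.map_smul, polar_smul_left, hyx, smul_zero,
        add_zero, ← hs, smul_eq_mul, div_mul_cancel₀ _ ha]
      linear_combination (Q y) * h2
  · obtain ⟨z, hz0, hzx, hzy⟩ : ∃ z : V, z ≠ 0 ∧ polar Q x z = 0 ∧ polar Q y z = 0 := by
      have h1 : 1 < finrank F (LinearMap.ker (polarBilin Q x)) := by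
        have h := LinearMap.finrank_range_add_finrank_ker (polarBilin Q x)
        have h' := Submodule.finrank_le (LinearMap.range (polarBilin Q x))
        rw [finrank_self] at h'
        omega
      obtain ⟨z, hz, hz0, hzy⟩ := hker _ y h1
      exact ⟨z, hz0, hz, hzy⟩
    have hc := hns z hz0
    obtain ⟨s, t, hst⟩ := binary_represents_one h2 (a := -Q x / Q z) (b := -Q y / Q z)
      (div_ne_zero (neg_ne_zero.mpr ha) hc) (div_ne_zero (neg_ne_zero.mpr hb) hc)
    refine hns (s • x + t • y + z) (fun h => ?_) ?_
    · have h3 := congrArg (fun w => polar Q w z) h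
      simp only [polar_add_left, polar_smul_left, hzx, hzy, smul_zero, zero_add, polar_zero_left,
        CfsgLib.Classical.Quad.polar_self'] at h3
      exact mul_ne_zero h2 hc h3
    · rw [QuadraticMap.map_add (⇑Q), QuadraticMap.map_add (⇑Q), QuadraticMap.map_smul,
        QuadraticMap.map_smul]
      simp only [polar_add_left, polar_smul_left, polar_smul_right, hzx, hzy, hyx, smul_eq_mul,
        mul_zero, add_zero]
      field_simp at hst
      linear_combination -hst

/-- Hyperbolic pairs and an anisotropic remainder of dimension at most two. -/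
theorem exists_decomp [Fintype F] :
    ∀ (n : ℕ) {V : Type v} [AddCommGroup V] [Module F V] [FiniteDimensional F V]
      (Q : QuadraticForm F V), NDPolar Q → finrank F V = n →
      ∃ (k r : ℕ) (e f : Fin k → V) (W : Submodule F V), n = 2 * k + r ∧ r ≤ 2 ∧
        IsHypFamily Q e f ∧ finrank F W = r ∧ (∀ w ∈ W, Q w = 0 → w = 0) ∧
        (∀ w ∈ W, ∀ i, polar Q (e i) w = 0 ∧ polar Q (f i) w = 0) ∧
        (∀ w ∈ W, (∀ w' ∈ W, polar Q w w' = 0) → w = 0) := by
  intro n
  induction n using Nat.strong_induction_on with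
  | _ n ih =>
  intro V _ _ _ Q hnd hn
  by_cases hs : ∃ u : V, u ≠ 0 ∧ Q u = 0
  · obtain ⟨u, hu0, hu⟩ := hs
    obtain ⟨z₀, hz₀⟩ := CfsgLib.Classical.Quad.exists_polar_one hnd hu0
    obtain ⟨z, hz, huz⟩ : ∃ z, Q z = 0 ∧ polar Q u z = 1 := by
      refine ⟨z₀ + (-Q z₀) • u, ?_, ?_⟩
      · rw [CfsgLib.Classical.Quad.Q_comb1, hu, polar_comm Q z₀ u, hz₀]; ring
      · rw [polar_add_right, polar_smul_right, hz₀, CfsgLib.Classical.Quad.polar_singular_self hu,
          smul_zero, add_zero]
    have huu := CfsgLib.Classical.Quad.polar_singular_self hu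
    have hzz := CfsgLib.Classical.Quad.polar_singular_self hz
    let W : Submodule F V := LinearMap.ker (polarBilin Q u) ⊓ LinearMap.ker (polarBilin Q z)
    have hW : ∀ w, w ∈ W ↔ polar Q u w = 0 ∧ polar Q z w = 0 := fun w => Iff.rfl
    have hproj : ∀ y, y - polar Q z y • u - polar Q u y • z ∈ W := by
      intro y
      rw [hW]
      simp [polar_sub_right, polar_smul_right, huu, hzz, huz, polar_comm Q z u]
    have hWn : finrank F W + 2 = n := by
      let Φ : V →ₗ[F] F × F := (polarBilin Q u).prod (polarBilin Q z)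
      have hk : LinearMap.ker Φ = W := LinearMap.ker_prod _ _
      have hr : LinearMap.range Φ = ⊤ := by
        rw [LinearMap.range_eq_top]
        intro p
        refine ⟨p.1 • z + p.2 • u, ?_⟩
        simp [Φ, polar_add_right, polar_smul_right, huu, hzz, huz, polar_comm Q z u]
      have := LinearMap.finrank_range_add_finrank_ker Φ
      rw [hk, hr, finrank_top, finrank_prod, finrank_self] at this
      omega
    let Q' : QuadraticForm F W := Q.comp W.subtype
    have hpol : ∀ a b : W, polar Q' a b = polar Q (a : V) b := fun _ _ => rfl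
    have hnd' : NDPolar Q' := by
      intro x hx
      refine Subtype.ext (hnd _ fun y => ?_)
      have h1 := hx ⟨_, hproj y⟩
      rw [hpol] at h1
      simp only [polar_sub_right, polar_smul_right, (hW _).mp x.2, polar_comm Q (x : V) u,
        polar_comm Q (x : V) z, smul_zero, sub_zero] at h1
      exact h1
    obtain ⟨k, r, e, f, W', hn', hr, ⟨hs, hp, hi⟩, hW', hani, horth, hnd''⟩ :=
      ih (finrank F W) (by omega) Q' hnd' rfl
    refine ⟨k + 1, r, Fin.cons u (fun i => (e i : V)), Fin.cons z (fun i => (f i : V)),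
      W'.map W.subtype, by omega, hr, ⟨fun i => ?_, fun i j => ?_, fun i j => ?_⟩, ?_, ?_, ?_, ?_⟩
    · refine Fin.cases ?_ (fun i => ?_) i
      · exact ⟨hu, hz⟩
      · exact hs i
    · refine Fin.cases ?_ (fun i => ?_) i <;> refine Fin.cases ?_ (fun j => ?_) j
      · simpa using huz
      · simpa [(Fin.succ_ne_zero j).symm] using ((hW _).mp (f j).2).1
      · simpa [Fin.succ_ne_zero i, polar_comm Q _ z] using ((hW _).mp (e i).2).2
      · simpa [hpol] using hp i j
    · refine Fin.cases ?_ (fun i => ?_) i <;> refine Fin.cases ?_ (fun j => ?_) j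
      · exact ⟨huu, hzz⟩
      · exact ⟨((hW _).mp (e j).2).1, ((hW _).mp (f j).2).2⟩
      · simp only [Fin.cons_succ, Fin.cons_zero]
        rw [polar_comm Q (e i : V), polar_comm Q (f i : V)]
        exact ⟨((hW _).mp (e i).2).1, ((hW _).mp (f i).2).2⟩
      · exact hi i j
    · rw [← hW', (Submodule.equivMapOfInjective _ W.injective_subtype W').finrank_eq]
    · rintro _ ⟨w, hw, rfl⟩ hQw
      rw [hani w hw hQw, map_zero]
    · rintro _ ⟨w, hw, rfl⟩ i
      refine Fin.cases ?_ (fun i => ?_) i
      · exact (hW _).mp w.2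
      · exact horth w hw i
    · rintro _ ⟨w, hw, rfl⟩ h
      rw [hnd'' w hw fun w' hw' => h _ ⟨w', hw', rfl⟩, map_zero]
  · push Not at hs
    have hn2 : n ≤ 2 := by
      by_contra h
      obtain ⟨w, hw, hw0⟩ := exists_singular_of_three Q (by omega)
      exact hs w hw hw0
    exact ⟨0, n, Fin.elim0, Fin.elim0, ⊤, by omega, hn2,
      ⟨fun i => i.elim0, fun i => i.elim0, fun i => i.elim0⟩, by rw [finrank_top, hn],
      fun w _ h => by by_contra h0; exact hs w h0 h, fun _ _ i => i.elim0,
      fun w _ h => hnd w fun y => h y Submodule.mem_top⟩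

/-- A standard family together with a remainder spans independently. -/
theorem linearIndependent_family {V : Type v} [AddCommGroup V] [Module F V] (Q : QuadraticForm F V)
    {k : ℕ} {e f : Fin k → V} (h : IsHypFamily Q e f) {κ : Type*} [Fintype κ] (w : κ → V)
    (hw : LinearIndependent F w) (horth : ∀ c i, polar Q (e i) (w c) = 0 ∧ polar Q (f i) (w c) = 0) :
    LinearIndependent F (Sum.elim (Sum.elim e f) w) := by
  classical
  rw [Fintype.linearIndependent_iff]
  intro c hc
  simp only [Fintype.sum_sum_type, Sum.elim_inl, Sum.elim_inr] at hc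
  have hfe : ∀ i j, polar Q (f i) (e j) = if i = j then 1 else 0 := fun i j => by
    rw [polar_comm, h.pair]; simp [eq_comm]
  have he : ∀ i, c (Sum.inl (Sum.inl i)) = 0 := by
    intro i
    have := congrArg (polarBilin Q (f i)) hc
    simpa [map_add, map_sum, hfe, (h.iso _ _).2, (horth _ _).2] using this
  have hf : ∀ i, c (Sum.inl (Sum.inr i)) = 0 := by
    intro i
    have := congrArg (polarBilin Q (e i)) hc
    simpa [map_add, map_sum, h.pair, (h.iso _ _).1, (horth _ _).1] using this
  simp [he, hf] at hc
  have hr := Fintype.linearIndependent_iff.mp hw _ hc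
  rintro ((i | i) | i)
  · exact he i
  · exact hf i
  · exact hr i

end CfsgLib.FormsDisc
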